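import Cfsg.Agent.Lib.BenderSuzuki.Interface
import Cfsg.Agent.S1120
import Cfsg.Agent.S1128
import Cfsg.Agent.Lib.RankOne.Nilpotent

/-!
# Suzuki's theorem on split rank-one groups: §1, reduction to simple groups and assembly

The subgroup generated by the involutions contains `Q`, has odd index, and is either everything,
in which case the group is simple, or a smaller set-up.
-/

set_option autoImplicit false
set_option linter.unusedSectionVars false

namespace Cfsg.Agent.Lib.BenderSuzuki.Reduction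

open MulAction Cfsg.Agent.Lib.RankOne.Basic

universe u v

variable {G : Type u} {Ω : Type v} [Group G] [MulAction G Ω] {a : Ω} {t : G} {Q : Subgroup G}

/-- The subgroup generated by the involutions. -/
def invGen (G : Type u) [Group G] : Subgroup G :=
  Subgroup.normalClosure {x : G | x ≠ 1 ∧ x * x = 1}

instance invGen_normal : (invGen G).Normal := Subgroup.normalClosure_normal

theorem mem_invGen {x : G} (h : x * x = 1) : x ∈ invGen G := by
  by_cases hx : x = 1
  · rw [hx]; exact (invGen G).one_mem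
  · exact Subgroup.subset_normalClosure ⟨hx, h⟩

/-- A normal subgroup of odd index contains every involution. -/
theorem mem_of_odd_index {M : Subgroup G} [M.Normal] (hM : Odd M.index) {x : G} (hx : x * x = 1) :
    x ∈ M := by
  have h1 : (x : G ⧸ M) ^ M.index = 1 := by
    rw [Subgroup.index_eq_card]; exact pow_card_eq_one'
  obtain ⟨k, hk⟩ := hM
  rw [← QuotientGroup.eq_one_iff, ← h1, hk, pow_succ, pow_mul, pow_two, ← QuotientGroup.mk_mul, hx,
    QuotientGroup.mk_one, one_pow, one_mul]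

theorem t_mem (hS : Cfsg.IsRankOneSetup G Ω a t Q) : t ∈ invGen G := mem_invGen hS.mul_self

theorem kSet_subset (hS : Cfsg.IsRankOneSetup G Ω a t Q) {k : G} (hk : k ∈ kSet a t) :
    k ∈ invGen G := by
  have h1 : t * k * t = k⁻¹ := ((mem_invertedBy_iff hS).1 hk).2
  have h2 : t * k * (t * k) = 1 := by
    rw [show t * k * (t * k) = t * k * t * k by group, h1, inv_mul_cancel]
  have := (invGen G).mul_mem ((invGen G).inv_mem (t_mem hS)) (mem_invGen h2)
  simpa using this

section finite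

variable [Finite G]

theorem Q_le (hH : Hyp G Ω a t Q) : Q ≤ invGen G := by
  have := hH.faithful
  obtain ⟨k, hk, hk1⟩ :=
    Cfsg.Agent.Lib.RankOne.Nilpotent.exists_inverted_ne_one hH.setup hH.twoRank
  have hC := Cfsg.Agent.S1128.result hH.setup hH.twoRank k hk hk1
  have hkN := kSet_subset hH.setup hk
  let φ : Q → Q := fun x => ⟨(x : G) * (k * (x : G)⁻¹ * k⁻¹),
    Q.mul_mem x.2 (twoStab_norm hH.setup hk.1 (Q.inv_mem x.2))⟩
  have hinj : Function.Injective φ := by
    intro x y e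
    have e' : (x : G) * (k * (x : G)⁻¹ * k⁻¹) = y * (k * (y : G)⁻¹ * k⁻¹) := congrArg Subtype.val e
    have h : ((y : G)⁻¹ * x) ∈ Q ⊓ Subgroup.centralizer {k} := by
      refine ⟨Q.mul_mem (Q.inv_mem y.2) x.2, Subgroup.mem_centralizer_singleton_iff.2 ?_⟩
      calc ((y : G)⁻¹ * x) * k
          = (y : G)⁻¹ * ((x : G) * (k * (x : G)⁻¹ * k⁻¹)) * (k * x) := by group
        _ = (y : G)⁻¹ * (y * (k * (y : G)⁻¹ * k⁻¹)) * (k * x) := by rw [e']
        _ = k * ((y : G)⁻¹ * x) := by group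
    rw [hC, Subgroup.mem_bot, inv_mul_eq_one] at h
    exact Subtype.ext h.symm
  intro y hy
  obtain ⟨x, hx⟩ := (Finite.injective_iff_surjective.1 hinj) ⟨y, hy⟩
  rw [show y = (x : G) * (k * (x : G)⁻¹ * k⁻¹) from (congrArg Subtype.val hx).symm,
    show (x : G) * (k * (x : G)⁻¹ * k⁻¹) = (x * k * (x : G)⁻¹) * k⁻¹ by group]
  exact (invGen G).mul_mem ((invGen_normal (G := G)).conj_mem k hkN x) ((invGen G).inv_mem hkN)

/-- An element of `invGen G` taking a pair of points to `(a, t • a)`. -/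
theorem exists_to_base (hH : Hyp G Ω a t Q) {b c : Ω} (hbc : b ≠ c) :
    ∃ n ∈ invGen G, n • b = a ∧ n • c = t • a := by
  obtain ⟨n, hn, hnb⟩ : ∃ n ∈ invGen G, n • b = a := by
    by_cases hb : b = a
    · exact ⟨1, (invGen G).one_mem, by rw [one_smul, hb]⟩
    · obtain ⟨x, hx, hxc⟩ := Q_trans hH.setup hb (t_smul_ne hH.setup)
      exact ⟨t * x, (invGen G).mul_mem (t_mem hH.setup) (Q_le hH hx),
        by rw [mul_smul, hxc, tt_smul hH.setup]⟩
  have hne : n • c ≠ a := fun h => hbc (smul_left_cancel n (hnb.trans h.symm))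
  obtain ⟨x, hx, hxc⟩ := Q_trans hH.setup hne (t_smul_ne hH.setup)
  exact ⟨x * n, (invGen G).mul_mem (Q_le hH hx) hn, by rw [mul_smul, hnb, Q_fix hH.setup hx],
    by rw [mul_smul, hxc]⟩

theorem sup_twoStab (hH : Hyp G Ω a t Q) : invGen G ⊔ twoStab G a t = ⊤ := by
  refine top_unique fun g _ => ?_
  obtain ⟨n, hn, h1, h2⟩ := exists_to_base hH
    (show g • a ≠ g • (t • a) from fun h => t_smul_ne hH.setup (smul_left_cancel g h).symm)
  have hd : n * g ∈ twoStab G a t :=
    mem_twoStab.2 ⟨by rw [mul_smul, h1], by rw [mul_smul, h2]⟩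
  rw [show g = n⁻¹ * (n * g) by group]
  exact Subgroup.mul_mem _ (Subgroup.mem_sup_left ((invGen G).inv_mem hn)) (Subgroup.mem_sup_right hd)

theorem odd_index (hH : Hyp G Ω a t Q) : Odd (invGen G).index := by
  refine hH.setup.odd_card.of_dvd_nat ?_
  have h : (invGen G).relIndex (twoStab G a t ⊔ invGen G) = (invGen G).relIndex (twoStab G a t) :=
    Subgroup.relIndex_sup_right _ _
  rw [sup_comm, sup_twoStab hH, Subgroup.relIndex_top_right] at h
  rw [h]
  exact Subgroup.relIndex_dvd_card _ _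

theorem isSimple (hH : Hyp G Ω a t Q) (htop : invGen G = ⊤) : IsSimpleGroup G := by
  have := hH.faithful
  have : Nontrivial G := ⟨⟨t, 1, hH.setup.ne_one⟩⟩
  refine ⟨fun M hM => ?_⟩
  rcases Nat.even_or_odd (Nat.card M) with hev | hodd
  · right
    obtain ⟨x, hx⟩ := exists_prime_orderOf_dvd_card' (G := M) 2 hev.two_dvd
    have hx1 : (x : G) ≠ 1 := fun h => by
      rw [← orderOf_eq_one_iff, Subgroup.orderOf_coe, hx] at h; norm_num at h
    have hx2 : (x : G) * x = 1 := by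
      have := congrArg Subtype.val (pow_orderOf_eq_one x)
      rw [hx, SubmonoidClass.coe_pow, pow_two] at this
      exact this
    refine top_unique (htop ▸ Subgroup.normalClosure_le_normal fun w hw => ?_)
    obtain ⟨g, hg⟩ := all_conj hH.setup hx1 hx2 hw.1 hw.2
    rw [← hg]; exact hM.conj_mem x x.2 g
  · left
    have h2 := Cfsg.Agent.S1120.result hH.setup hH.twoRank
    refine (eq_bot_iff).2 fun x hx => ?_
    have hle : M ≤ Cfsg.pPrimeCore 2 G := le_sSup ⟨hM, Nat.coprime_two_right.2 hodd⟩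
    rw [h2] at hle
    refine Subgroup.mem_bot.2 (eq_of_smul_eq_smul fun c : Ω => ?_)
    obtain ⟨g, rfl⟩ := (pretransitive hH.setup).exists_smul_eq a c
    have h3 : g⁻¹ * x * g⁻¹⁻¹ ∈ stabilizer G a :=
      Subgroup.normalCore_le _ ((Subgroup.normalCore_normal _).conj_mem x (hle hx) g⁻¹)
    rw [mem_stabilizer_iff, inv_inv, mul_smul, mul_smul, inv_smul_eq_iff] at h3
    rw [h3, one_smul]

theorem hyp_invGen (hH : Hyp G Ω a t Q) :
    Hyp (invGen G) Ω a ⟨t, t_mem hH.setup⟩ (Q.subgroupOf (invGen G)) := by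
  have hS := hH.setup
  refine ⟨{
    two_transitive := ?_
    mul_self := Subtype.ext hS.mul_self
    ne_one := fun h => hS.ne_one (congrArg Subtype.val h)
    not_mem := fun h => hS.not_mem h
    le := fun x hx => hS.le hx
    conj_mem := fun h hh x hx => hS.conj_mem _ hh _ hx
    inf_eq_bot := ?_
    sup_eq := ?_
    even_card := ?_
    odd_card := ?_ }, ?_, ?_⟩
  · refine MulAction.is_two_pretransitive_iff.2 fun {b c d e} hbc hde => ?_
    obtain ⟨n, hn, h1, h2⟩ := exists_to_base hH hbc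
    obtain ⟨m, hm, h3, h4⟩ := exists_to_base hH hde
    refine ⟨⟨m⁻¹ * n, (invGen G).mul_mem ((invGen G).inv_mem hm) hn⟩, ?_, ?_⟩
    · show (m⁻¹ * n) • b = d
      rw [mul_smul, h1, inv_smul_eq_iff, h3]
    · show (m⁻¹ * n) • c = e
      rw [mul_smul, h2, inv_smul_eq_iff, h4]
  · refine (eq_bot_iff).2 fun x hx => ?_
    have h : (x : G) ∈ Q ⊓ stabilizer G (t • a) := ⟨hx.1, hx.2⟩
    rw [hS.inf_eq_bot, Subgroup.mem_bot] at h
    exact Subgroup.mem_bot.2 (Subtype.ext h)
  · refine le_antisymm (sup_le (fun x hx => hS.le hx) inf_le_left) fun x hx => ?_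
    obtain ⟨q, hq, d, hd, e⟩ := exists_Q_D hS (show (x : G) • a = a from hx)
    have hdN : d ∈ invGen G := by
      rw [show d = q⁻¹ * (x : G) by rw [e]; group]
      exact (invGen G).mul_mem ((invGen G).inv_mem (Q_le hH hq)) x.2
    rw [show x = (⟨q, Q_le hH hq⟩ : invGen G) * ⟨d, hdN⟩ from Subtype.ext e]
    exact Subgroup.mul_mem _ (Subgroup.mem_sup_left hq) (Subgroup.mem_sup_right ⟨hd.1, hd.2⟩)
  · rw [Nat.card_congr (Subgroup.subgroupOfEquivOfLe (Q_le hH)).toEquiv]; exact hS.even_card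
  · refine hS.odd_card.of_dvd_nat ?_
    rw [← Subgroup.card_map_of_injective (f := (invGen G).subtype) Subtype.val_injective]
    refine Subgroup.card_dvd_of_le ?_
    rintro _ ⟨x, hx, rfl⟩
    exact ⟨hx.1, hx.2⟩
  · exact ⟨fun {x y} h => Subtype.ext (hH.faithful.eq_of_smul_eq_smul h)⟩
  · obtain ⟨x, y, hx, hy, hxy, hx2, hy2, hc⟩ := hH.twoRank
    exact ⟨⟨x, mem_invGen hx2⟩, ⟨y, mem_invGen hy2⟩, fun h => hx (congrArg Subtype.val h),
      fun h => hy (congrArg Subtype.val h), fun h => hxy (congrArg Subtype.val h),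
      Subtype.ext hx2, Subtype.ext hy2, Subtype.ext hc⟩

theorem invs_image (a : Ω) :
    Subtype.val '' invs (invGen G) a = invs G a := by
  ext x
  constructor
  · rintro ⟨y, ⟨h1, h2, h3⟩, rfl⟩
    exact ⟨h1, fun h => h2 (Subtype.ext h), congrArg Subtype.val h3⟩
  · rintro ⟨h1, h2, h3⟩
    exact ⟨⟨x, mem_invGen h3⟩, ⟨h1, fun h => h2 (congrArg Subtype.val h), Subtype.ext h3⟩, rfl⟩

theorem qNum_invGen (a : Ω) : qNum (invGen G) a = qNum G a := by
  unfold qNum
  rw [← invs_image (G := G) a, Nat.card_image_of_injective Subtype.val_injective]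

theorem inter_kSet (hS : Cfsg.IsRankOneSetup G Ω a t Q)
    (h : ((⊤ ⊓ twoStab (invGen G) a ⟨t, t_mem hS⟩ : Subgroup (invGen G)) : Set (invGen G)) =
      kSet a ⟨t, t_mem hS⟩) :
    ((invGen G ⊓ twoStab G a t : Subgroup G) : Set G) = kSet a t := by
  ext x
  constructor
  · rintro ⟨hxN, hxD⟩
    have h1 : (⟨x, hxN⟩ : invGen G) ∈ kSet a (⟨t, t_mem hS⟩ : invGen G) := by
      rw [← h]; exact ⟨trivial, hxD.1, hxD.2⟩
    exact ⟨hxD, congrArg Subtype.val h1.2⟩
  · exact fun hx => ⟨kSet_subset hS hx, hx.1⟩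

theorem card_inter_vGrp (hS : Cfsg.IsRankOneSetup G Ω a t Q) :
    Nat.card ↥(⊤ ⊓ vGrp a (⟨t, t_mem hS⟩ : invGen G) : Subgroup (invGen G)) =
      Nat.card ↥(invGen G ⊓ vGrp a t : Subgroup G) := by
  refine Nat.card_congr
    { toFun := fun x => ⟨x.1.1, x.1.2, ⟨x.2.2.1.1, x.2.2.1.2⟩, ?_⟩
      invFun := fun x => ⟨⟨x.1, x.2.1⟩, trivial, ⟨x.2.2.1.1, x.2.2.1.2⟩, ?_⟩
      left_inv := fun _ => rfl
      right_inv := fun _ => rfl }
  · exact Subgroup.mem_centralizer_singleton_iff.2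
      (congrArg Subtype.val (Subgroup.mem_centralizer_singleton_iff.1 x.2.2.2))
  · exact Subgroup.mem_centralizer_singleton_iff.2
      (Subtype.ext (Subgroup.mem_centralizer_singleton_iff.1 x.2.2.2))

theorem inter_vGrp_le (hS : Cfsg.IsRankOneSetup G Ω a t Q)
    (h : ⊤ ⊓ vGrp a (⟨t, t_mem hS⟩ : invGen G) ≤ vKer a (⟨t, t_mem hS⟩ : invGen G)) :
    invGen G ⊓ vGrp a t ≤ vKer a t := by
  rintro x ⟨hxN, hxD, hxt⟩
  have h1 := h (x := ⟨x, hxN⟩) ⟨trivial, ⟨hxD.1, hxD.2⟩, Subgroup.mem_centralizer_singleton_iff.2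
    (Subtype.ext (Subgroup.mem_centralizer_singleton_iff.1 hxt))⟩
  refine ⟨hxD, fun y hy => ?_⟩
  have hy' : (⟨y, mem_invGen hy.2.2⟩ : invGen G) ∈ invs (invGen G) a :=
    ⟨hy.1, fun e => hy.2.1 (congrArg Subtype.val e), Subtype.ext hy.2.2⟩
  exact congrArg Subtype.val (h1.2 _ hy')

/-- A set-up on a proper subgroup generated by the involutions. -/
theorem good_of_proper (hH : Hyp G Ω a t Q)
    (hG : Good (invGen G) Ω a ⟨t, t_mem hH.setup⟩ (Q.subgroupOf (invGen G))) : Good G Ω a t Q := by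
  obtain ⟨h2, L, hLn, hLodd, -, -, hcase⟩ := hG
  have hL : L = ⊤ := by
    have hle : invGen G ≤ L.map (invGen G).subtype := by
      have hcl : invGen G = Subgroup.closure {x : G | x ≠ 1 ∧ x * x = 1} := by
        refine le_antisymm ?_ Subgroup.closure_le_normalClosure
        refine (Subgroup.closure_le _).2 fun x hx => ?_
        obtain ⟨y, hy, hc⟩ := Group.mem_conjugatesOfSet_iff.1 hx
        obtain ⟨g, rfl⟩ := isConj_iff.1 hc
        refine Subgroup.subset_closure ⟨fun e => hy.1 ?_, ?_⟩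
        · simpa using e
        · rw [show g * y * g⁻¹ * (g * y * g⁻¹) = g * (y * y) * g⁻¹ by group, hy.2, mul_one,
            mul_inv_cancel]
      refine hcl.le.trans ((Subgroup.closure_le _).2 fun x hx => ?_)
      exact ⟨⟨x, mem_invGen hx.2⟩, mem_of_odd_index hLodd (Subtype.ext hx.2), rfl⟩
    refine top_unique fun x _ => ?_
    obtain ⟨y, hy, e⟩ := hle x.2
    rwa [← Subtype.ext e]
  subst hL
  have hQle := Q_le hH
  have hcard : Nat.card ↥(Q.subgroupOf (invGen G)) = Nat.card Q :=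
    Nat.card_congr (Subgroup.subgroupOfEquivOfLe hQle).toEquiv
  refine ⟨h2.of_equiv (Subgroup.subgroupOfEquivOfLe hQle), invGen G, inferInstance, odd_index hH,
    hQle, t_mem hH.setup, ?_⟩
  have hq := qNum_invGen (G := G) a
  rcases hcase with ⟨hc, hK, F, i1, i2, hF, hn, ⟨e⟩⟩ | ⟨hc, hK, hiso⟩ |
    ⟨hc, hle, hm, F, i1, i2, n, hn, hqn, hF, ⟨e⟩⟩
  · exact Or.inl ⟨by rw [← hq, ← hcard, hc], inter_kSet hH.setup hK, F, i1, i2, by rw [← hq, hF],
      by rw [← hq]; exact hn, ⟨Subgroup.topEquiv.symm.trans e⟩⟩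
  · refine Or.inr (Or.inl ⟨by rw [← hq, ← hcard, hc], inter_kSet hH.setup hK, ?_⟩)
    obtain ⟨F, i1, i2, m, hm, hF, ⟨e⟩⟩ := hiso
    exact ⟨F, i1, i2, m, hm, hF, ⟨Subgroup.topEquiv.symm.trans e⟩⟩
  · exact Or.inr (Or.inr ⟨by rw [← hq, ← hcard, hc], inter_vGrp_le hH.setup hle,
      by rw [← hq, ← card_inter_vGrp hH.setup]; exact hm, F, i1, i2, n, hn, by rw [← hq, hqn], hF,
      ⟨Subgroup.topEquiv.symm.trans e⟩⟩)

end finite

theorem reduction : PropReduction.{u, v} := by
  intro hmin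
  suffices h : ∀ (N : ℕ), Below.{u, v} N by
    intro G Ω _ _ _ a t Q hH
    exact h (Nat.card G + 1) G Ω a t Q (Nat.lt_succ_self _) hH
  intro N
  induction N with
  | zero => intro G Ω _ _ _ a t Q hlt; omega
  | succ N ih =>
    intro G Ω _ _ _ a t Q hlt hH
    by_cases htop : invGen G = ⊤
    · refine hmin G Ω a t Q ⟨hH, fun G' Ω' _ _ _ a' t' Q' hlt' hH' => ?_, isSimple hH htop⟩
      exact ih G' Ω' a' t' Q' (by omega) hH'
    · refine good_of_proper hH (ih (invGen G) Ω a _ _ ?_ (hyp_invGen hH))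
      have : Nat.card (invGen G) < Nat.card G :=
        lt_of_le_of_ne (invGen G).card_le_card_group
          fun h => htop ((invGen G).eq_top_of_card_eq h)
      omega

/-- The theorem from the sections. -/
theorem main_of (hZ : PropZassenhaus.{u, v}) (hT : PropTwoGroup.{u, v}) (hN : PropNoGalois.{u, v})
    (hO : PropOrder.{u, v}) (hC : PropCoords.{u, v}) (hU : PropUnitary.{u, v}) : PropMain.{u, v} := by
  refine reduction fun G Ω _ _ _ a t Q hM => ?_
  by_cases hV : vGrp a t = ⊥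
  · exact hZ G Ω a t Q hM.toHyp hM.simple hV
  have h2 := hT G Ω a t Q hM hV
  by_cases hK : vKer a t = ⊥
  · exact absurd (hN G Ω a t Q hM h2 hK) hV
  have hord := hO G Ω a t Q hM.toHyp h2 hK
  obtain ⟨F, i1, i2, c, hF, hc⟩ := hC G Ω a t Q hM.toHyp h2 hord hK
  exact hU G Ω a t Q F c hM.toHyp hF hc

end Cfsg.Agent.Lib.BenderSuzuki.Reduction
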